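import Mathlib

open scoped TensorProduct

namespace Groth.Agent.Filt52

universe u v w

variable {R : Type u} [CommRing R] {M : Type v} [AddCommGroup M] [Module R M]

/-- The product of functionals on a tensor power. -/
noncomputable def tf {k : ℕ} (φ : Fin k → M →ₗ[R] R) : (⨂[R] _ : Fin k, M) →ₗ[R] R :=
  PiTensorProduct.lift ((MultilinearMap.mkPiAlgebra R (Fin k) R).compLinearMap φ)

theorem tf_tprod {k : ℕ} (φ : Fin k → M →ₗ[R] R) (x : Fin k → M) :
    tf φ (PiTensorProduct.tprod R x) = ∏ i, φ i (x i) := by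
  simp [tf]

theorem range_map_le_ker {k : ℕ} (φ : Fin k → M →ₗ[R] R) (N : Fin k → Submodule R M)
    (i : Fin k) (hi : ∀ y ∈ N i, φ i y = 0) :
    LinearMap.range (PiTensorProduct.map (R := R) (fun j => (N j).subtype)) ≤ LinearMap.ker (tf φ) := by
  rintro _ ⟨t, rfl⟩
  induction t using PiTensorProduct.induction_on with
  | smul_tprod r x =>
    simp only [map_smul, PiTensorProduct.map_tprod, LinearMap.mem_ker, tf_tprod]
    rw [Finset.prod_eq_zero (Finset.mem_univ i) (hi _ (x i).2), smul_zero]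
  | add a b ha hb =>
    rw [map_add]
    exact add_mem ha hb

theorem tprod_mem_range {k : ℕ} (N : Fin k → Submodule R M) (x : Fin k → M) (hx : ∀ i, x i ∈ N i) :
    PiTensorProduct.tprod R x ∈
      LinearMap.range (PiTensorProduct.map (R := R) (fun j => (N j).subtype)) :=
  ⟨PiTensorProduct.tprod R (fun i => (⟨x i, hx i⟩ : N i)), by simp [PiTensorProduct.map_tprod]⟩

/-- If all functionals send a finite projective module into an ideal `p`, it is killed by some
element outside the prime `p`. -/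
theorem exists_smul_eq_zero [Module.Finite R M] [Module.Projective R M] (p : Ideal R) [hp : p.IsPrime]
    (h : ∀ (g : M →ₗ[R] R) (m : M), g m ∈ p) : ∃ s ∉ p, ∀ m : M, s • m = 0 := by
  obtain ⟨n, f, g, -, -, hfg⟩ := Module.Finite.exists_comp_eq_id_of_projective R M
  have hle : (⊤ : Submodule R M) ≤ p • (⊤ : Submodule R M) := by
    intro m _
    have hm : f (g m) = m := LinearMap.congr_fun hfg m
    rw [← hm, pi_eq_sum_univ (g m), map_sum]
    refine sum_mem fun i _ => ?_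
    rw [map_smul]
    exact Submodule.smul_mem_smul (h ((LinearMap.proj i).comp g) m) trivial
  obtain ⟨r, hr1, hr2⟩ :=
    Submodule.exists_sub_one_mem_and_smul_eq_zero_of_fg_of_le_smul p ⊤ Module.Finite.fg_top hle
  exact ⟨r, fun hr => hp.ne_top ((Ideal.eq_top_iff_one p).2 (by simpa using sub_mem hr hr1)),
    fun m => hr2 m trivial⟩

theorem eq_zero_of_forall_prime (a : R)
    (h : ∀ p : Ideal R, p.IsPrime → ∃ s ∉ p, s * a = 0) : a = 0 := by
  by_contra ha
  let J : Ideal R := LinearMap.ker ((LinearMap.id : R →ₗ[R] R).smulRight a)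
  have hJ : J ≠ ⊤ := by
    intro hJ
    have : (1 : R) ∈ J := hJ ▸ trivial
    simp [J] at this
    exact ha this
  obtain ⟨m, hm, hle⟩ := Ideal.exists_le_maximal J hJ
  obtain ⟨s, hs, hs0⟩ := h m hm.isPrime
  exact hs (hle (by simpa [J] using hs0))

theorem eq_zero_of_forall_dual [Module.Projective R M] (x : M) (h : ∀ g : M →ₗ[R] R, g x = 0) :
    x = 0 :=
  (Module.forall_dual_apply_eq_zero_iff R x).1 h

section Graded

variable {Γ : Type w} [DecidableEq Γ] (G : Γ → Submodule R M) (hG : DirectSum.IsInternal G)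

/-- Projection on a piece of an internal grading. -/
noncomputable def proj (γ : Γ) : M →ₗ[R] M :=
  (G γ).subtype ∘ₗ DirectSum.component R Γ (fun i => G i) γ ∘ₗ
    (LinearEquiv.ofBijective (DirectSum.coeLinearMap G) hG).symm.toLinearMap

theorem proj_apply (γ : Γ) (m : M) :
    proj G hG γ m = ((LinearEquiv.ofBijective (DirectSum.coeLinearMap G) hG).symm m γ : M) := rfl

theorem proj_mem (γ : Γ) (m : M) : proj G hG γ m ∈ G γ :=
  (DirectSum.component R Γ (fun i => G i) γ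
    ((LinearEquiv.ofBijective (DirectSum.coeLinearMap G) hG).symm m)).2

theorem proj_of_mem_eq {γ : Γ} {m : M} (hm : m ∈ G γ) : proj G hG γ m = m := by
  rw [proj_apply, hG.ofBijective_coeLinearMap_of_mem hm]

theorem proj_of_mem_ne {γ η : Γ} (hne : γ ≠ η) {m : M} (hm : m ∈ G γ) : proj G hG η m = 0 := by
  rw [proj_apply, hG.ofBijective_coeLinearMap_of_mem_ne hne hm, ZeroMemClass.coe_zero]

theorem proj_eq_zero_of_mem_biSup (T : Set Γ) {η : Γ} (hη : η ∉ T) {m : M}
    (hm : m ∈ ⨆ γ ∈ T, G γ) : proj G hG η m = 0 := by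
  have : (⨆ γ ∈ T, G γ) ≤ LinearMap.ker (proj G hG η) :=
    iSup₂_le fun γ hγ x hx => proj_of_mem_ne G hG (fun h : γ = η => hη (h ▸ hγ)) hx
  exact this hm

open Classical in
theorem exists_sum_proj (m : M) : ∃ s : Finset Γ, ∑ γ ∈ s, proj G hG γ m = m := by
  refine ⟨DFinsupp.support ((LinearEquiv.ofBijective (DirectSum.coeLinearMap G) hG).symm m), ?_⟩
  set v := (LinearEquiv.ofBijective (DirectSum.coeLinearMap G) hG).symm m with hv
  have h : DirectSum.coeLinearMap G v = m :=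
    (LinearEquiv.ofBijective (DirectSum.coeLinearMap G) hG).apply_symm_apply m
  conv_rhs => rw [← h, ← DirectSum.sum_support_of v, map_sum]
  refine Finset.sum_congr rfl fun γ _ => ?_
  simp [proj_apply, ← hv]

end Graded

section Tensor

variable {Γ : Type w} [AddCommGroup Γ] [LinearOrder Γ] [IsOrderedAddMonoid Γ]
  (F₁ F₂ : Γ → Submodule R M) (G : Γ → Submodule R M) (hG : DirectSum.IsInternal G)
  (hF : ∀ γ, F₂ γ = ⨆ η ∈ Set.Ici γ, G η)
  {n : ℕ} (h : ∀ γ : Γ,
    (⨆ c : {c : Fin (n + 1) → Γ // ∑ i, c i = γ},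
        LinearMap.range (PiTensorProduct.map (R := R) (fun i => (F₁ (c.1 i)).subtype))) ≤
      (⨆ c : {c : Fin (n + 1) → Γ // ∑ i, c i = γ},
        LinearMap.range (PiTensorProduct.map (R := R) (fun i => (F₂ (c.1 i)).subtype))))

include hF h in
/-- A functional on pieces of small weight kills products of elements of `F₁` of large weight. -/
theorem prod_eq_zero (b : Fin (n + 1) → Γ) (e : Fin (n + 1) → Γ) (he : ∑ i, e i < ∑ i, b i)
    (f : Fin (n + 1) → M →ₗ[R] R) (x : Fin (n + 1) → M) (hx : ∀ i, x i ∈ F₁ (b i)) :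
    ∏ i, f i (proj G hG (e i) (x i)) = 0 := by
  have hmem := le_iSup (fun c : {c : Fin (n + 1) → Γ // ∑ i, c i = ∑ i, b i} =>
      LinearMap.range (PiTensorProduct.map (R := R) (fun i => (F₁ (c.1 i)).subtype))) ⟨b, rfl⟩
      (tprod_mem_range (fun i => F₁ (b i)) x hx)
  replace hmem := h _ hmem
  have hker : (⨆ c : {c : Fin (n + 1) → Γ // ∑ i, c i = ∑ i, b i},
        LinearMap.range (PiTensorProduct.map (R := R) (fun i => (F₂ (c.1 i)).subtype))) ≤
      LinearMap.ker (tf fun i => f i ∘ₗ proj G hG (e i)) := by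
    refine iSup_le fun c => ?_
    obtain ⟨i, -, hi⟩ := Finset.exists_lt_of_sum_lt (he.trans_le c.2.ge)
    refine range_map_le_ker _ (fun j => F₂ (c.1 j)) i fun y hy => ?_
    rw [hF] at hy
    simp [proj_eq_zero_of_mem_biSup G hG (Set.Ici (c.1 i)) (not_le.2 hi) hy]
  have h0 := hker hmem
  simpa [tf_tprod] using h0

include hF h in
theorem mem_prime {γ η : Γ} (hη : η < γ) {x : M} (hx : x ∈ F₁ γ) (f : M →ₗ[R] R)
    (p : Ideal R) [hp : p.IsPrime] : f (proj G hG η x) ∈ p := by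
  have h0 := prod_eq_zero F₁ F₂ G hG hF h (fun _ => γ) (fun _ => η)
    (Finset.sum_lt_sum_of_nonempty Finset.univ_nonempty fun _ _ => hη)
    (fun _ => f) (fun _ => x) (fun _ => hx)
  rw [Finset.prod_const] at h0
  exact hp.mem_of_pow_mem _ (h0 ▸ p.zero_mem)

include hF h in
theorem mul_pow_eq_zero {γ η δ δ' : Γ} (hη : η < γ) (hδ : δ' ≤ δ) {x y : M} (hx : x ∈ F₁ γ)
    (hy : y ∈ F₁ δ) (f g : M →ₗ[R] R) :
    f (proj G hG η x) * g (proj G hG δ' y) ^ n = 0 := by
  have := prod_eq_zero F₁ F₂ G hG hF h (Fin.cons γ fun _ => δ) (Fin.cons η fun _ => δ') (by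
      rw [Fin.sum_univ_succ, Fin.sum_univ_succ]
      simp only [Fin.cons_zero, Fin.cons_succ]
      exact add_lt_add_of_lt_of_le hη (Finset.sum_le_sum fun _ _ => hδ))
    (Fin.cons f fun _ => g) (Fin.cons x fun _ => y) (by
      intro i
      induction i using Fin.cases <;> simp [*])
  simpa [Fin.prod_univ_succ] using this

end Tensor

theorem le_of_tensorPower {Γ : Type w} [AddCommGroup Γ] [LinearOrder Γ] [IsOrderedAddMonoid Γ]
    [Module.Finite R M] [Module.Projective R M]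
    (F₁ F₂ G₁ G₂ : Γ → Submodule R M) (hG₁ : DirectSum.IsInternal G₁) (hG₂ : DirectSum.IsInternal G₂)
    (hF₁ : ∀ γ, F₁ γ = ⨆ η ∈ Set.Ici γ, G₁ η) (hF₂ : ∀ γ, F₂ γ = ⨆ η ∈ Set.Ici γ, G₂ η) {n : ℕ}
    (h : ∀ γ : Γ,
    (⨆ c : {c : Fin (n + 1) → Γ // ∑ i, c i = γ},
        LinearMap.range (PiTensorProduct.map (R := R) (fun i => (F₁ (c.1 i)).subtype))) =
      (⨆ c : {c : Fin (n + 1) → Γ // ∑ i, c i = γ},
        LinearMap.range (PiTensorProduct.map (R := R) (fun i => (F₂ (c.1 i)).subtype))))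
    (γ : Γ) : F₁ γ ≤ F₂ γ := by
  intro x hx
  have hG : ∀ δ, G₁ δ ≤ F₁ δ := fun δ => hF₁ δ ▸ le_biSup G₁ (Set.self_mem_Ici : δ ∈ Set.Ici δ)
  have hG' : ∀ δ, G₂ δ ≤ F₂ δ := fun δ => hF₂ δ ▸ le_biSup G₂ (Set.self_mem_Ici : δ ∈ Set.Ici δ)
  obtain ⟨s, hs⟩ := exists_sum_proj G₂ hG₂ x
  rw [← hs]
  refine sum_mem fun η _ => ?_
  rcases le_or_gt γ η with hle | hlt
  · rw [hF₂]
    exact Submodule.mem_iSup_of_mem η (Submodule.mem_iSup_of_mem hle (proj_mem G₂ hG₂ η x))
  suffices hz : proj G₂ hG₂ η x = 0 by rw [hz]; exact zero_mem _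
  refine eq_zero_of_forall_dual (R := R) _ fun f => eq_zero_of_forall_prime _ fun p hp => ?_
  by_cases hex : ∃ (δ δ' : Γ) (y : M) (g : M →ₗ[R] R), δ' ≤ δ ∧ y ∈ F₁ δ ∧ g (proj G₂ hG₂ δ' y) ∉ p
  · obtain ⟨δ, δ', y, g, hδ, hy, hg⟩ := hex
    refine ⟨g (proj G₂ hG₂ δ' y) ^ n, fun hc => hg (hp.mem_of_pow_mem _ hc), ?_⟩
    rw [mul_comm]
    exact mul_pow_eq_zero F₁ F₂ G₂ hG₂ hF₂ (fun γ => (h γ).le) hlt hδ hx hy f g
  push Not at hex
  obtain ⟨r, hr, hr0⟩ := exists_smul_eq_zero (M := M) p (fun g m => by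
    obtain ⟨t, ht⟩ := exists_sum_proj G₁ hG₁ m
    rw [← ht, map_sum]
    refine sum_mem fun δ _ => ?_
    have hy := proj_mem G₁ hG₁ δ m
    obtain ⟨t', ht'⟩ := exists_sum_proj G₂ hG₂ (proj G₁ hG₁ δ m)
    rw [← proj_of_mem_eq G₁ hG₁ hy, ← ht', map_sum, map_sum]
    refine sum_mem fun η' _ => ?_
    rcases le_or_gt η' δ with h1 | h1
    · exact hex δ η' _ (g ∘ₗ proj G₁ hG₁ δ) h1 (hG δ hy)
    · exact mem_prime F₂ F₁ G₁ hG₁ hF₁ (fun γ => (h γ).ge) h1 (hG' η' (proj_mem G₂ hG₂ η' _)) g p)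
  refine ⟨r, hr, ?_⟩
  rw [← smul_eq_mul, ← map_smul, hr0, map_zero]

theorem le_of_range_tensorPower [Module.Finite R M] [Module.Projective R M]
    (F₁ F₂ C₁ C₂ : Submodule R M) (h₁ : IsCompl F₁ C₁) (h₂ : IsCompl F₂ C₂) (n : ℕ)
    (h : LinearMap.range (PiTensorProduct.map (R := R) (fun _ : Fin (n + 1) => F₁.subtype)) ≤
      LinearMap.range (PiTensorProduct.map (R := R) (fun _ : Fin (n + 1) => F₂.subtype))) :
    F₁ ≤ F₂ := by
  intro x hx
  rw [← Submodule.linearProjOfIsCompl_apply_eq_zero_iff h₂.symm, ← Submodule.coe_eq_zero]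
  let π : M →ₗ[R] M := C₂.subtype ∘ₗ C₂.projectionOnto F₂ h₂.symm
  change π x = 0
  have hπ : ∀ y ∈ F₂, π y = 0 := fun y hy => by
    simp [π, Submodule.projectionOnto_apply_eq_zero_iff, hy]
  refine eq_zero_of_forall_dual (R := R) _ fun f => eq_zero_of_forall_prime _ fun p hp => ?_
  by_cases hex : ∃ y ∈ F₁, ∃ g : M →ₗ[R] R, g y ∉ p
  · obtain ⟨y, hy, g, hg⟩ := hex
    refine ⟨g y ^ n, fun hc => hg (hp.mem_of_pow_mem _ hc), ?_⟩
    have h0 := range_map_le_ker (Fin.cons (f ∘ₗ π) fun _ => g) (fun _ => F₂) 0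
      (fun z hz => by simp [hπ z hz])
      (h (tprod_mem_range (fun _ => F₁) (Fin.cons x fun _ => y) (fun i => by
        induction i using Fin.cases <;> simp [*])))
    simpa [tf_tprod, Fin.prod_univ_succ, mul_comm] using h0
  push Not at hex
  haveI : Module.Finite R F₁ :=
    Module.Finite.of_surjective (F₁.projectionOnto C₁ h₁) (Submodule.projectionOnto_surjective h₁)
  haveI : Module.Projective R F₁ :=
    Module.Projective.of_split F₁.subtype (F₁.projectionOnto C₁ h₁) (by ext; simp)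
  obtain ⟨r, hr, hr0⟩ := exists_smul_eq_zero (M := F₁) p (fun g m => by
    have := hex m.1 m.2 (g ∘ₗ F₁.projectionOnto C₁ h₁)
    simpa using this)
  refine ⟨r, hr, ?_⟩
  have : r • x = 0 := congrArg Subtype.val (hr0 ⟨x, hx⟩)
  rw [← smul_eq_mul, ← map_smul, ← map_smul, this, map_zero, map_zero]

end Groth.Agent.Filt52
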