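import Groth.Agent.Filt52.Split

open scoped TensorProduct

namespace Groth.Agent.Filt52

universe u v w t

variable {R : Type u} [CommRing R] {M : Type v} [AddCommGroup M] [Module R M]
variable (A : Type t) [CommRing A] [Algebra R A]

theorem bc_iSup {ι : Sort*} (N : ι → Submodule R M) :
    (⨆ i, N i).baseChange A = ⨆ i, (N i).baseChange A := by
  refine le_antisymm ?_ (iSup_le fun i => Submodule.baseChange_mono A (le_iSup N i))
  rw [Submodule.baseChange_eq_span, Submodule.span_le]
  have : (⨆ i, N i) ≤ ((⨆ i, (N i).baseChange A).restrictScalars R).comap (TensorProduct.mk R A M 1) :=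
    iSup_le fun i x hx => Submodule.mem_iSup_of_mem i (Submodule.tmul_mem_baseChange_of_mem 1 hx)
  rintro _ ⟨x, hx, rfl⟩
  exact this hx

theorem bc_biSup {ι : Type*} (T : Set ι) (N : ι → Submodule R M) :
    (⨆ i ∈ T, N i).baseChange A = ⨆ i ∈ T, (N i).baseChange A := by
  rw [bc_iSup]
  exact iSup_congr fun i => bc_iSup A _

theorem bc_sup (N N' : Submodule R M) :
    (N ⊔ N').baseChange A = N.baseChange A ⊔ N'.baseChange A := by
  rw [sup_eq_iSup, sup_eq_iSup, bc_iSup]
  exact iSup_congr fun b => by cases b <;> rfl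

theorem bc_le_ker (f : M →ₗ[R] M) {N : Submodule R M} (h : ∀ x ∈ N, f x = 0) :
    N.baseChange A ≤ LinearMap.ker (f.baseChange A) := by
  rw [Submodule.baseChange_eq_span, Submodule.span_le]
  rintro _ ⟨x, hx, rfl⟩
  simp [h x hx]

theorem bc_id_on (f : M →ₗ[R] M) {N : Submodule R M} (h : ∀ x ∈ N, f x = x) :
    ∀ z ∈ N.baseChange A, f.baseChange A z = z := by
  have : N.baseChange A ≤ LinearMap.eqLocus (f.baseChange A) LinearMap.id := by
    rw [Submodule.baseChange_eq_span, Submodule.span_le]
    rintro _ ⟨x, hx, rfl⟩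
    simp [h x hx]
  exact fun z hz => this hz

variable {Γ : Type w} [LinearOrder Γ] {F G : Γ → Submodule R M}
variable (K : Type t) [Field K] [Algebra R K]

/-- The jump of the fibre filtration. -/
noncomputable def jump (F : Γ → Submodule R M) (γ : Γ) : ℕ :=
  Module.finrank K ↥((F γ).baseChange K) -
    Module.finrank K ↥(⨆ η ∈ Set.Ioi γ, (F η).baseChange K)

theorem finsum_jump_of_split [Module.Finite R M] (hG : DirectSum.IsInternal G)
    (hF : ∀ γ, F γ = ⨆ η ∈ Set.Ici γ, G η) :
    Module.finrank K (K ⊗[R] M) = ∑ᶠ γ, jump K F γ := by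
  classical
  obtain ⟨S, hS⟩ := exists_finset hG
  let g : Γ → Submodule K (K ⊗[R] M) := fun γ => (G γ).baseChange K
  have hdis : ∀ γ (T : Set Γ), γ ∉ T → g γ ⊓ (⨆ η ∈ T, G η).baseChange K = ⊥ := fun γ T hγ =>
    (Submodule.eq_bot_iff _).2 fun z hz => by
      rw [← bc_id_on K (proj G hG γ) (fun x hx => proj_of_mem_eq G hG hx) z hz.1]
      exact bc_le_ker K (proj G hG γ) (fun x hx => proj_eq_zero_of_mem_biSup G hG T hγ hx) hz.2
  have hind : iSupIndep g := by
    intro γ
    rw [disjoint_iff]
    have h := hdis γ {η | η ≠ γ} (by simp)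
    rw [bc_biSup] at h
    exact h
  have hjump : ∀ γ, jump K F γ = Module.finrank K (g γ) := by
    intro γ
    have h1 : (F γ).baseChange K = g γ ⊔ ⨆ η ∈ Set.Ioi γ, (F η).baseChange K := by
      rw [← bc_biSup, ← bc_sup, sup_next hF]
    have h2 : g γ ⊓ ⨆ η ∈ Set.Ioi γ, (F η).baseChange K = ⊥ := by
      rw [← bc_biSup, next_eq hF]
      exact hdis γ _ Set.self_notMem_Ioi
    have h3 := Submodule.finrank_sup_add_finrank_inf_eq (g γ) (⨆ η ∈ Set.Ioi γ, (F η).baseChange K)
    rw [h2, finrank_bot, add_zero, ← h1] at h3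
    rw [jump, h3, Nat.add_sub_cancel]
  have hg0 : ∀ γ ∉ S, g γ = ⊥ := fun γ hγ => by simp [g, hS γ hγ]
  have htop : (⨆ γ : S, g γ) = ⊤ := by
    rw [eq_top_iff, ← Submodule.baseChange_top K (R := R) (M := M), ← hG.submodule_iSup_eq_top, bc_iSup]
    refine iSup_le fun γ => ?_
    by_cases h : γ ∈ S
    · exact le_iSup (fun γ : S => g γ) ⟨γ, h⟩
    · exact (hg0 γ h).le.trans bot_le
  have hint : DirectSum.IsInternal (fun γ : S => g γ) :=
    DirectSum.isInternal_submodule_of_iSupIndep_of_iSup_eq_top
      (hind.comp Subtype.val_injective) htop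
  haveI : ∀ i : S, Module.Free K (g i) := fun i =>
    @Module.Free.of_divisionRing K (g i) _ (Submodule.addCommGroup _) (Submodule.module _)
  rw [finsum_eq_sum_of_support_subset _ (s := S) (fun γ hγ => by
    by_contra hc
    apply hγ
    rw [hjump, hg0 γ (by simpa using hc), finrank_bot]),
    ← (LinearEquiv.ofBijective (DirectSum.coeLinearMap fun γ : S => g γ) hint).finrank_eq,
    Module.finrank_directSum, ← Finset.sum_coe_sort S]
  exact Finset.sum_congr rfl fun γ _ => (hjump γ).symm

/-- If the jumps of the fibre filtration exhaust the fibre, so do the complements. -/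
theorem exists_finset_span [Module.Finite R M]
    (hG : ∀ γ, G γ ≤ F γ) (hsum : ∀ γ, G γ ⊔ (⨆ η ∈ Set.Ioi γ, F η) = F γ) (hF : Antitone F)
    (h : Module.finrank K (K ⊗[R] M) = ∑ᶠ γ, jump K F γ) :
    ∃ S : Finset Γ, (⨆ η ∈ S, G η).baseChange K = ⊤ := by
  classical
  rcases Nat.eq_zero_or_pos (Module.finrank K (K ⊗[R] M)) with h0 | hpos
  · refine ⟨∅, ?_⟩
    haveI : Subsingleton (K ⊗[R] M) := Module.finrank_zero_iff.1 h0
    exact Subsingleton.elim _ _
  have hfin : (Function.support (jump K F)).Finite := by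
    by_contra hc
    rw [finsum_of_infinite_support hc] at h
    omega
  refine ⟨hfin.toFinset, ?_⟩
  rw [finsum_eq_sum _ hfin] at h
  suffices key : ∀ T : Finset Γ, ∑ γ ∈ T, jump K F γ ≤
      Module.finrank K ↥((⨆ η ∈ T, G η).baseChange K) by
    refine Submodule.eq_top_of_finrank_eq (le_antisymm (Submodule.finrank_le _) ?_)
    rw [h]
    exact key _
  intro T
  induction T using Finset.induction_on_min with
  | empty => simp
  | insert a T hlt IH =>
    rw [Finset.sum_insert (fun hc => lt_irrefl _ (hlt a hc)), Finset.iSup_insert, bc_sup]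
    set Y := (⨆ η ∈ T, G η).baseChange K
    set X := ⨆ η ∈ Set.Ioi a, (F η).baseChange K with hX
    have hY : Y ≤ X := by
      rw [hX, ← bc_biSup]
      exact Submodule.baseChange_mono K (iSup₂_le fun η hη =>
        (hG η).trans (le_biSup F (show η ∈ Set.Ioi a from hlt η hη)))
    have h1 : (F a).baseChange K = (G a).baseChange K ⊔ X := by
      rw [hX, ← bc_biSup, ← bc_sup, hsum a]
    have e1 := Submodule.finrank_sup_add_finrank_inf_eq ((G a).baseChange K) X
    have e2 := Submodule.finrank_sup_add_finrank_inf_eq ((G a).baseChange K) Y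
    have e3 := Submodule.finrank_mono (inf_le_inf_left ((G a).baseChange K) hY)
    have e4 : jump K F a = Module.finrank K ↥((G a).baseChange K ⊔ X) - Module.finrank K ↥X := by
      rw [jump, h1]
    have e5 := Submodule.finrank_mono (inf_le_left : (G a).baseChange K ⊓ X ≤ (G a).baseChange K)
    omega

/-- Nakayama: a submodule which spans the fibre at a prime contains a multiple of the module. -/
theorem exists_notMem_smul_mem [Module.Finite R M] (p : PrimeSpectrum R) (N : Submodule R M)
    (h : N.baseChange p.asIdeal.ResidueField = ⊤) : ∃ r ∉ p.asIdeal, ∀ m : M, r • m ∈ N := by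
  have hsurj : Function.Surjective (N.mkQ.baseChange p.asIdeal.ResidueField) :=
    LinearMap.lTensor_surjective _ N.mkQ_surjective
  have hsub : Subsingleton (p.asIdeal.ResidueField ⊗[R] (M ⧸ N)) := by
    refine subsingleton_of_forall_eq 0 fun z => ?_
    obtain ⟨y, rfl⟩ := hsurj z
    have hy : y ∈ N.baseChange p.asIdeal.ResidueField := h ▸ Submodule.mem_top
    have : N.baseChange p.asIdeal.ResidueField ≤
        LinearMap.ker (N.mkQ.baseChange p.asIdeal.ResidueField) := by
      rw [Submodule.baseChange_eq_span, Submodule.span_le]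
      rintro _ ⟨x, hx, rfl⟩
      simp [(Submodule.Quotient.mk_eq_zero N).2 hx]
    exact this hy
  have hns : p ∉ Module.support R (M ⧸ N) := by
    rw [Module.mem_support_iff_nontrivial_residueField_tensorProduct, not_nontrivial_iff_subsingleton]
    exact hsub
  rw [Module.mem_support_iff_of_finite] at hns
  obtain ⟨r, hr, hrp⟩ := SetLike.not_le_iff_exists.1 hns
  refine ⟨r, hrp, fun m => (Submodule.Quotient.mk_eq_zero N).1 ?_⟩
  rw [Submodule.Quotient.mk_smul]
  exact Module.mem_annihilator.1 hr _

end Groth.Agent.Filt52
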