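import Groth.Agent.Filt52.Basic

open scoped TensorProduct

namespace Groth.Agent.Filt52

universe u v w

variable {R : Type u} [CommRing R] {M : Type v} [AddCommGroup M] [Module R M]
variable {Γ : Type w} [LinearOrder Γ]

theorem eq_zero_of_sum_mem {F G : Γ → Submodule R M} (hF : Antitone F) (hG : ∀ γ, G γ ≤ F γ)
    (hdis : ∀ γ, G γ ⊓ (⨆ η ∈ Set.Ioi γ, F η) = ⊥) (s : Finset Γ) (v : Γ → M)
    (hv : ∀ i ∈ s, v i ∈ G i) (T : Submodule R M) (b : Γ → Prop)
    (hsum : ∑ i ∈ s, v i ∈ T) (hT : ∀ i ∈ s, b i → T ≤ ⨆ η ∈ Set.Ioi i, F η) :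
    ∀ i ∈ s, b i → (∀ j ∈ s, j < i → v j = 0) → v i = 0 := by
  intro i hi hbi hlt
  have h1 : v i ∈ ⨆ η ∈ Set.Ioi i, F η := by
    rw [← Finset.add_sum_erase s v hi] at hsum
    refine (Submodule.add_mem_iff_left _ ?_).1 (hT i hi hbi hsum)
    refine sum_mem fun j hj => ?_
    rcases lt_or_gt_of_ne (Finset.ne_of_mem_erase hj) with h | h
    · rw [hlt j (Finset.mem_of_mem_erase hj) h]
      exact zero_mem _
    · exact Submodule.mem_iSup_of_mem j
        (Submodule.mem_iSup_of_mem h (hG j (hv j (Finset.mem_of_mem_erase hj))))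
  have := Submodule.mem_inf.2 ⟨hv i hi, h1⟩
  rwa [hdis i, Submodule.mem_bot] at this

theorem forall_eq_zero {F G : Γ → Submodule R M} (hF : Antitone F) (hG : ∀ γ, G γ ≤ F γ)
    (hdis : ∀ γ, G γ ⊓ (⨆ η ∈ Set.Ioi γ, F η) = ⊥) (s : Finset Γ) (v : Γ → M)
    (hv : ∀ i ∈ s, v i ∈ G i) (T : Submodule R M) (b : Γ → Prop)
    (hb : ∀ i j, j < i → b i → b j)
    (hsum : ∑ i ∈ s, v i ∈ T) (hT : ∀ i ∈ s, b i → T ≤ ⨆ η ∈ Set.Ioi i, F η) :
    ∀ i ∈ s, b i → v i = 0 := by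
  intro i hi
  induction h : (s.filter (· < i)).card using Nat.strong_induction_on generalizing i with
  | _ n IH =>
    subst h
    intro hbi
    refine eq_zero_of_sum_mem hF hG hdis s v hv T b hsum hT i hi hbi fun j hj hlt => ?_
    refine IH _ (Finset.card_lt_card ?_) j hj rfl (hb i j hlt hbi)
    rw [Finset.ssubset_iff_of_subset (fun k hk => Finset.mem_filter.2
      ⟨(Finset.mem_filter.1 hk).1, (Finset.mem_filter.1 hk).2.trans hlt⟩)]
    exact ⟨j, Finset.mem_filter.2 ⟨hj, hlt⟩, fun hj' => lt_irrefl _ (Finset.mem_filter.1 hj').2⟩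

/-- Complements of the next steps of a filtration determined by finitely many steps split it. -/
theorem split_of_compl {F G : Γ → Submodule R M} (hF : Antitone F) (S : Finset Γ)
    (hsum : ∀ γ, G γ ⊔ (⨆ η ∈ Set.Ioi γ, F η) = F γ)
    (hdis : ∀ γ, G γ ⊓ (⨆ η ∈ Set.Ioi γ, F η) = ⊥)
    (hS : ∀ γ, F γ ≤ ⨆ η ∈ S, ⨆ (_ : γ ≤ η), F η)
    (htop : ⊤ ≤ ⨆ γ, F γ) :
    DirectSum.IsInternal G ∧ ∀ γ, F γ = ⨆ η ∈ Set.Ici γ, G η := by
  have hG : ∀ γ, G γ ≤ F γ := fun γ => le_sup_left.trans_eq (hsum γ)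
  have key : ∀ η ∈ S, F η ≤ ⨆ ζ ∈ Set.Ici η, G ζ := by
    intro η hη
    induction h : (S.filter (η ≤ ·)).card using Nat.strong_induction_on generalizing η with
    | _ n IH =>
      subst h
      rw [← hsum η]
      refine sup_le (le_biSup G (Set.self_mem_Ici : η ∈ Set.Ici η)) (iSup₂_le fun ξ hξ => (hS ξ).trans
        (iSup₂_le fun ζ hζ => iSup_le fun hle => ?_))
      have hlt : η < ζ := lt_of_lt_of_le hξ hle
      refine (IH _ (Finset.card_lt_card ?_) ζ hζ rfl).trans (biSup_mono fun x hx => hlt.le.trans hx)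
      rw [Finset.ssubset_iff_of_subset (fun k hk => Finset.mem_filter.2
        ⟨(Finset.mem_filter.1 hk).1, hlt.le.trans (Finset.mem_filter.1 hk).2⟩)]
      exact ⟨η, Finset.mem_filter.2 ⟨hη, le_rfl⟩,
        fun hc => not_lt.2 (Finset.mem_filter.1 hc).2 hlt⟩
  have key' : ∀ γ, F γ = ⨆ η ∈ Set.Ici γ, G η := fun γ =>
    le_antisymm ((hS γ).trans (iSup₂_le fun η hη => iSup_le fun hle =>
      (key η hη).trans (biSup_mono fun x hx => hle.trans hx)))
      (iSup₂_le fun η hη => (hG η).trans (hF hη))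
  refine ⟨DirectSum.isInternal_submodule_of_iSupIndep_of_iSup_eq_top ?_ ?_, key'⟩
  · rw [iSupIndep_iff_finsetSum_eq_zero_imp_eq_zero]
    intro s v hv h0 i hi
    exact forall_eq_zero hF hG hdis s v hv ⊥ (fun _ => True) (fun _ _ _ _ => trivial)
      ((Submodule.mem_bot R).2 h0) (fun _ _ _ => bot_le) i hi trivial
  · exact top_le_iff.1 (htop.trans (iSup_le fun γ => (key' γ).le.trans
      (iSup₂_le fun η _ => le_iSup G η)))

section FromSplit

variable {F G : Γ → Submodule R M} (hG : DirectSum.IsInternal G)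
  (hF : ∀ γ, F γ = ⨆ η ∈ Set.Ici γ, G η)

include hF in
theorem le_of_split (γ : Γ) : G γ ≤ F γ :=
  hF γ ▸ le_biSup G (Set.self_mem_Ici : γ ∈ Set.Ici γ)

include hF in
theorem next_eq (γ : Γ) : (⨆ η ∈ Set.Ioi γ, F η) = ⨆ η ∈ Set.Ioi γ, G η :=
  le_antisymm (iSup₂_le fun η hη => (hF η).le.trans (biSup_mono fun _ hx => lt_of_lt_of_le hη hx))
    (iSup₂_mono fun η _ => le_of_split hF η)

include hF in
theorem sup_next (γ : Γ) : G γ ⊔ (⨆ η ∈ Set.Ioi γ, F η) = F γ := by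
  rw [next_eq hF, hF γ, ← Set.Ioi_insert, iSup_insert]

include hF in
theorem proj_eq_zero_of_mem_next {γ : Γ} {m : M} (hm : m ∈ ⨆ η ∈ Set.Ioi γ, F η) :
    proj G hG γ m = 0 := by
  rw [next_eq hF] at hm
  exact proj_eq_zero_of_mem_biSup G hG _ Set.self_notMem_Ioi hm

include hG hF in
theorem inf_next (γ : Γ) : G γ ⊓ (⨆ η ∈ Set.Ioi γ, F η) = ⊥ :=
  (Submodule.eq_bot_iff _).2 fun x hx => by
    rw [← proj_of_mem_eq G hG hx.1, proj_eq_zero_of_mem_next hG hF hx.2]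

include hF in
theorem sub_proj_mem_next {γ : Γ} {m : M} (hm : m ∈ F γ) :
    m - proj G hG γ m ∈ ⨆ η ∈ Set.Ioi γ, F η := by
  rw [← sup_next hF γ, Submodule.mem_sup] at hm
  obtain ⟨a, ha, b, hb, rfl⟩ := hm
  rw [map_add, proj_of_mem_eq G hG ha, proj_eq_zero_of_mem_next hG hF hb]
  simpa using hb

include hG in
theorem exists_finset [Module.Finite R M] : ∃ S : Finset Γ, ∀ γ ∉ S, G γ = ⊥ := by
  classical
  obtain ⟨t, ht⟩ := Module.Finite.fg_top (R := R) (M := M)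
  choose s hs using exists_sum_proj G hG
  refine ⟨t.biUnion s, fun γ hγ => (Submodule.eq_bot_iff _).2 fun x hx => ?_⟩
  have hker : (⊤ : Submodule R M) ≤ LinearMap.ker (proj G hG γ) := by
    rw [← ht, Submodule.span_le]
    intro m hm
    rw [SetLike.mem_coe, LinearMap.mem_ker, ← hs m, map_sum]
    refine Finset.sum_eq_zero fun η hη => ?_
    exact proj_of_mem_ne G hG (fun h : η = γ => hγ (h ▸ Finset.mem_biUnion.2 ⟨m, hm, hη⟩))
      (proj_mem G hG η m)
  rw [← proj_of_mem_eq G hG hx]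
  exact hker (Submodule.mem_top (x := x))

include hF in
theorem le_biSup_finset (S : Finset Γ) (hS : ∀ γ ∉ S, G γ = ⊥) (γ : Γ) :
    F γ ≤ ⨆ η ∈ S, ⨆ (_ : γ ≤ η), F η := by
  rw [hF γ]
  refine iSup₂_le fun η hη => ?_
  by_cases h : η ∈ S
  · refine le_trans ?_ (le_iSup₂_of_le η h (le_iSup_of_le hη le_rfl))
    exact le_of_split hF η
  · rw [hS η h]; exact bot_le

end FromSplit

end Groth.Agent.Filt52
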